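import Cfsg.Agent.Blocks.Induced
import Cfsg.Agent.Blocks.Basic
import Cfsg.Agent.FastGrp
import Cfsg.Agent.Prune
set_option linter.all false
prune_inst 0x7f00000000000000000000000000000000000000000000000000000000000000000000000000000000000000000000000000000000000000000000000000000000000000000000000000000000000000003fffffffffffffffffffffffffffbeffbdffbfffff
open scoped Cfsg.Agent.FastGrp

/-!
# Induced characters of members of the principal block (S4515 [R7], helper269)
-/

set_option autoImplicit false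

namespace Cfsg.Agent.H269.EB515

open Cfsg Cfsg.Agent.Blocks.Induced
open scoped ComplexConjugate

universe u

/-- the elements of a class outside of `T ≥ C_G(Q)`, `Q` a `p`-group -/
theorem dvd_ncard {G : Type u} [Group G] [Finite G] {p : ℕ} [Fact p.Prime] (T : Subgroup G) (Q : Subgroup G)
    (hQ : IsPGroup p Q) (hQT : Q ≤ T) (hC : Subgroup.centralizer (Q : Set G) ≤ T) (g : G) :
    p ∣ Nat.card {y : G // IsConj g y ∧ y ∉ T} := by
  let _ : MulAction Q {y : G // IsConj g y ∧ y ∉ T} :=
    { smul := fun q y => ⟨(q : G) * y.1 * (q : G)⁻¹, y.2.1.trans (isConj_iff.2 ⟨(q : G), rfl⟩), fun h => y.2.2 (by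
        have h1 := T.mul_mem (T.mul_mem (T.inv_mem (hQT q.2)) h) (hQT q.2)
        have h2 : (q : G)⁻¹ * ((q : G) * y.1 * (q : G)⁻¹) * (q : G) = y.1 := by group
        rwa [h2] at h1)⟩
      one_smul := fun y => Subtype.ext (by
        show (1 : G) * y.1 * (1 : G)⁻¹ = y.1
        group)
      mul_smul := fun a b y => Subtype.ext (by
        show ((a : G) * (b : G)) * y.1 * ((a : G) * (b : G))⁻¹ = (a : G) * ((b : G) * y.1 * (b : G)⁻¹) * (a : G)⁻¹
        group) }
  have h1 := hQ.card_modEq_card_fixedPoints {y : G // IsConj g y ∧ y ∉ T}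
  have h2 : IsEmpty (MulAction.fixedPoints Q {y : G // IsConj g y ∧ y ∉ T}) := by
    refine ⟨fun ⟨y, hy⟩ => y.2.2 (hC ?_)⟩
    rw [Subgroup.mem_centralizer_iff]
    intro q hq
    have h3 := congrArg Subtype.val (hy ⟨q, hq⟩)
    have h4 : q * y.1 * q⁻¹ = y.1 := h3
    rw [mul_inv_eq_iff_eq_mul] at h4
    exact h4
  rw [Nat.card_of_isEmpty (α := MulAction.fixedPoints Q _)] at h1
  exact (Nat.modEq_zero_iff_dvd).1 h1

/-- [R7] **the induced character of a member of the principal block** -/
theorem mem_of_ind {G : Type u} [Group G] [Fintype G] {p : ℕ} [Fact p.Prime] {M : Ideal AlgInt}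
    (hM : IsPModular p M) (T : Subgroup G) [Fintype T] (Q : Subgroup G) (hQ : IsPGroup p Q) (hQT : Q ≤ T)
    (hC : Subgroup.centralizer (Q : Set G) ≤ T) (ψ : IrrCharacter T) (hψ : ψ ∈ principalBlock M T)
    (hirr : IsIrrCharacter G (indFun T (ψ : T → ℂ))) :
    (⟨indFun T (ψ : T → ℂ), hirr⟩ : IrrCharacter G) ∈ principalBlock M G := by
  classical
  have hMp : M.IsPrime := hM.2.1.isPrime
  show SameBlock M (fun _ : G => (1 : ℂ)) (indFun T (ψ : T → ℂ))
  intro g
  have h1 := memLocalIdeal_induced_sub hMp T ⟨fun _ : T => (1 : ℂ), Cfsg.Agent.Blocks.Basic.isIrrCharacter_one⟩ ψ hψ g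
  rw [centralChar_indFun]
  have h2 : MemLocalIdeal M (centralChar (fun _ : G => (1 : ℂ)) g - inducedCentralChar T (fun _ : T => (1 : ℂ)) g) := by
    have e1 : centralChar (fun _ : G => (1 : ℂ)) g = ((Set.ncard {y : G | IsConj g y} : ℕ) : ℂ) := by
      unfold centralChar
      rw [ncard_conj_eq_index, mul_one, div_one]
    have e2 : inducedCentralChar T (fun _ : T => (1 : ℂ)) g = ((Set.ncard {h : T | IsConj g (h : G)} : ℕ) : ℂ) := by
      unfold inducedCentralChar
      rw [finsum_mem_eq_finite_toFinset_sum _ (Set.toFinite _), Finset.sum_const, nsmul_eq_mul, div_one, mul_one,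
        Set.ncard_eq_toFinset_card _ (Set.toFinite _)]
    have e3 : Set.ncard {y : G | IsConj g y} = Set.ncard {h : T | IsConj g (h : G)} +
        Nat.card {y : G // IsConj g y ∧ y ∉ T} := by
      have e4 : Set.ncard {h : T | IsConj g (h : G)} = Set.ncard {y : G | IsConj g y ∧ y ∈ T} := by
        rw [← Set.ncard_image_of_injective _ (Subtype.val_injective (p := fun y => y ∈ T))]
        congr 1
        ext y
        constructor
        · rintro ⟨h, hh, rfl⟩
          exact ⟨hh, h.2⟩
        · rintro ⟨hy, hyT⟩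
          exact ⟨⟨y, hyT⟩, hy, rfl⟩
      have e5 : Nat.card {y : G // IsConj g y ∧ y ∉ T} = Set.ncard {y : G | IsConj g y ∧ y ∉ T} := rfl
      rw [e4, e5, ← Set.ncard_union_eq]
      · congr 1
        ext y
        by_cases hy : y ∈ T <;> simp [hy]
      · rw [Set.disjoint_left]
        rintro y ⟨-, h1⟩ ⟨-, h2⟩
        exact h2 h1
    rw [e1, e2, e3]
    obtain ⟨m, hm⟩ := dvd_ncard T Q hQ hQT hC g
    rw [hm]
    refine ⟨(p : AlgInt) * (m : AlgInt), 1, M.mul_mem_right _ hM.2.2, fun h => hMp.ne_top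
      ((Ideal.eq_top_iff_one M).2 h), ?_⟩
    push_cast
    simp
  have h3 := memLocalIdeal_add hMp h2 h1
  rw [sub_add_sub_cancel] at h3
  exact h3

end Cfsg.Agent.H269.EB515
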